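import Groth.Agent.Lib.CohMop.RelExtCoh

/-!
# Direct images of complexes with coherent cohomology in low degrees
-/

set_option autoImplicit false
set_option linter.style.haveILetI false
set_option linter.unusedSectionVars false
set_option backward.isDefEq.respectTransparency false
set_option backward.isDefEq.respectTransparency.types false

universe u

open CategoryTheory CategoryTheory.Limits AlgebraicGeometry TopologicalSpace

namespace Groth.Agent.CohMop

open Groth.Agent

attribute [local instance] HasDerivedCategory.standard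

variable {X Y : Scheme.{u}} [HasInjectiveResolutions X.Modules] (P : X.Modules ⥤ Y.Modules) [P.Additive]
  [IsLocallyNoetherian Y] (K : CochainComplex X.Modules ℕ) (hK : ∀ n, RFPlus.IsAcyclicObj P (K.X n))

include hK in
/-- Cycles have coherent higher derived images. -/
theorem isCoh_rightDerived_cycles_le : ∀ (n : ℕ), (∀ m ≤ n, DCohObj P (K.homology m)) → ∀ j : ℕ,
    Coh.IsCoh ((P.rightDerived (j + 1)).obj (K.cycles n))
  | 0, hH, j => isCoh_of_iso ((P.rightDerived (j + 1)).mapIso (CochainComplex.isoHomologyπ₀ K)).symm (hH 0 le_rfl (j + 1))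
  | n + 1, hH, j => by
    obtain ⟨w, hS⟩ := shortExact_cycles K n
    exact isCoh_rightDerived_mid P (shortExact_homology K (n + 1))
      (fun j => isCoh_rightDerived_quot P hS (hK n) (fun j => isCoh_rightDerived_cycles_le n (fun m hm => hH m (hm.trans n.le_succ)) j) j) (hH (n + 1) le_rfl) j

include hK in
/-- The homology of `P K` is coherent. -/
theorem isCoh_homology_map_le [PreservesFiniteLimits P] (p : ℕ) (hH : ∀ m ≤ p, DCohObj P (K.homology m)) :
    Coh.IsCoh (((P.mapHomologicalComplex (ComplexShape.up ℕ)).obj K).homology p) := by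
  let PK := (P.mapHomologicalComplex (ComplexShape.up ℕ)).obj K
  have hlim : ∀ n, IsLimit (KernelFork.ofι (P.map (K.iCycles n))
      ((P.map_comp _ _).symm.trans ((congrArg P.map (K.iCycles_d n (n + 1))).trans (P.map_zero _ _)) : P.map (K.iCycles n) ≫ PK.d n (n + 1) = 0)) :=
    fun n => KernelFork.mapIsLimit _ (K.cyclesIsKernel n (n + 1) (by simp)) P
  let c : ∀ n, PK.cycles n ≅ P.obj (K.cycles n) := fun n =>
    (PK.cyclesIsKernel n (n + 1) (by simp)).conePointUniqueUpToIso (hlim n)
  rcases p with - | n
  · exact isCoh_of_iso ((CochainComplex.isoHomologyπ₀ PK).symm ≪≫ c 0 ≪≫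
      P.mapIso (CochainComplex.isoHomologyπ₀ K) ≪≫ P.rightDerivedZeroIsoSelf.symm.app _).symm (hH 0 le_rfl 0)
  obtain ⟨w, hS⟩ := shortExact_cycles K n
  let u := P.map (toB K n)
  let v := P.map (kernel.ι (K.homologyπ (n + 1)))
  haveI : Mono v := inferInstanceAs (Mono (P.map _))
  obtain ⟨e⟩ := nonempty_cokernel_iso_quot P hS (hK n)
  have hu : Coh.IsCoh (cokernel u) := isCoh_of_iso e.symm (isCoh_rightDerived_cycles_le P K hK n (fun m hm => hH m (hm.trans n.le_succ)) 0)
  have hv : Coh.IsCoh (cokernel v) := isCoh_cokernel_mid P (shortExact_homology K (n + 1))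
    (fun j => isCoh_rightDerived_quot P hS (hK n) (fun j => isCoh_rightDerived_cycles_le P K hK n (fun m hm => hH m (hm.trans n.le_succ)) j) j) (hH (n + 1) le_rfl)
  have hsq : PK.toCycles n (n + 1) ≫ (c (n + 1)).hom = (Iso.refl (PK.X n)).hom ≫ u ≫ v := by
    haveI : Mono (P.map (K.iCycles (n + 1))) := inferInstance
    rw [← cancel_mono (P.map (K.iCycles (n + 1))), Category.assoc,
      show (c (n + 1)).hom ≫ P.map (K.iCycles (n + 1)) = PK.iCycles (n + 1) from
        IsLimit.conePointUniqueUpToIso_hom_comp _ (hlim (n + 1)) WalkingParallelPair.zero,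
      HomologicalComplex.toCycles_i]
    simp [u, v, PK, ← P.map_comp, toB]
  refine isCoh_of_iso ((PK.homologyIsCokernel n (n + 1) (by simp)).coconePointUniqueUpToIso (colimit.isColimit _) ≪≫
    cokernel.mapIso _ (u ≫ v) (Iso.refl _) (c (n + 1)) hsq).symm ?_
  have hseq := kernelCokernelCompSequence_exact u v
  have e2 := hseq.exact 2
  have e3 := hseq.exact 3
  haveI : Mono ((kernelCokernelCompSequence u v).map' 3 4 (by decide) (by decide)) := e2.mono_g ((KernelFork.IsLimit.isZero_of_mono
    (limit.isLimit (parallelPair v 0))).eq_of_src _ _)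
  haveI : Epi ((kernelCokernelCompSequence u v).map' 4 5 (by decide) (by decide)) := inferInstance
  exact isCoh_of_shortExact' ((kernelCokernelCompSequence u v).map' 3 4 _ _)
    ((kernelCokernelCompSequence u v).map' 4 5 _ _) (((kernelCokernelCompSequence u v).sc hseq.toIsComplex 3 (by decide)).zero) e3 hu hv

end Groth.Agent.CohMop
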